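import Mathlib
import Cfsg.Agent.S3995
import Cfsg.Agent.FrobeniusCount
import Cfsg.Agent.SmallOrder.Elements

/-!
Groups in which the numbers of elements of each order take three values: arithmetic constraints.
-/

set_option autoImplicit false

namespace Cfsg.Agent.NSEThree

open Subgroup

/-- The number of elements of a given order. -/
noncomputable def cnt (G : Type*) [Group G] (m : ℕ) : ℕ := Nat.card {g : G // orderOf g = m}

theorem sum_divisors_mul_prime {M : Type*} [AddCommMonoid M] (f : ℕ → M) {d p : ℕ} (hd : d ≠ 0) (hp : p.Prime)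
    (hpd : ¬ p ∣ d) :
    ∑ e ∈ (d * p).divisors, f e = ∑ e ∈ d.divisors, f e + ∑ e ∈ d.divisors, f (e * p) := by
  classical
  have h : (d * p).divisors = d.divisors ∪ d.divisors.image (· * p) := by
    ext e
    simp only [Nat.mem_divisors, Finset.mem_union, Finset.mem_image, ne_eq, mul_eq_zero, hd, hp.ne_zero,
      or_self, not_false_eq_true, and_true]
    constructor
    · intro he
      by_cases hpe : p ∣ e
      · obtain ⟨c, rfl⟩ := hpe
        rw [mul_comm p c] at he ⊢
        exact Or.inr ⟨c, Nat.dvd_of_mul_dvd_mul_right hp.pos he, rfl⟩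
      · exact Or.inl ((Nat.Coprime.dvd_of_dvd_mul_right ((hp.coprime_iff_not_dvd.2 hpe).symm) he))
    · rintro (he | ⟨c, hc, rfl⟩)
      · exact he.mul_right p
      · exact Nat.mul_dvd_mul_right hc p
  rw [h, Finset.sum_union, Finset.sum_image]
  · intro x _ y _ e
    exact Nat.eq_of_mul_eq_mul_right hp.pos e
  · rw [Finset.disjoint_left]
    intro e he he'
    obtain ⟨c, -, rfl⟩ := Finset.mem_image.1 he'
    exact hpd ((dvd_mul_left p c).trans (Nat.dvd_of_mem_divisors he))

variable {G : Type*} [Group G] [Finite G]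

theorem cnt_one : cnt G 1 = 1 := by
  unfold cnt
  simp only [orderOf_eq_one_iff]
  exact Nat.card_unique

theorem cnt_pos {m : ℕ} {g : G} (h : orderOf g = m) : 0 < cnt G m :=
  Nat.card_pos_iff.2 ⟨⟨⟨g, h⟩⟩, inferInstance⟩

theorem totient_dvd_cnt (m : ℕ) : m.totient ∣ cnt G m := S3995.totient_dvd m

theorem dvd_sum_cnt {d : ℕ} (hd : d ∣ Nat.card G) : d ∣ ∑ e ∈ d.divisors, cnt G e := by
  have hd0 : d ≠ 0 := by
    rintro rfl
    exact Nat.card_pos.ne' (zero_dvd_iff.1 hd)
  have h := FrobeniusCount.dvd_card_pow_eq_one (G := G) hd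
  rwa [S3995.card_pow_eq_one_eq_sum d hd0] at h

theorem zmod_sum {d p : ℕ} (hd : d ∣ Nat.card G) (hp : p ∣ d) :
    ∑ e ∈ d.divisors, (cnt G e : ZMod p) = 0 := by
  rw [← Nat.cast_sum, ZMod.natCast_eq_zero_iff]
  exact hp.trans (dvd_sum_cnt hd)

theorem sum_prime {M : Type*} [AddCommMonoid M] (f : ℕ → M) {p : ℕ} (hp : p.Prime) :
    ∑ e ∈ p.divisors, f e = f 1 + f p := by
  have := sum_divisors_mul_prime f one_ne_zero hp hp.not_dvd_one
  simpa using this

theorem sum_pq {M : Type*} [AddCommMonoid M] (f : ℕ → M) {p q : ℕ} (hp : p.Prime) (hq : q.Prime) (hpq : p ≠ q) :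
    ∑ e ∈ (p * q).divisors, f e = f 1 + f p + (f q + f (p * q)) := by
  rw [sum_divisors_mul_prime f hp.ne_zero hq (fun h => hpq ((Nat.prime_dvd_prime_iff_eq hq hp).1 h).symm),
    sum_prime f hp, sum_prime (fun e => f (e * q)) hp, one_mul]

theorem sum_four {M : Type*} [AddCommMonoid M] (f : ℕ → M) : ∑ e ∈ (4 : ℕ).divisors, f e = f 1 + f 2 + f 4 := by
  rw [show (4 : ℕ).divisors = {1, 2, 4} from rfl, Finset.sum_insert (by decide), Finset.sum_pair (by decide), add_assoc]

theorem zmod_prime_ne {p : ℕ} (hp : p.Prime) (h2 : p ≠ 2) :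
    (1 : ZMod p) ≠ -1 ∧ (2 : ZMod p) ≠ 0 ∧ (1 : ZMod p) ≠ 0 := by
  have := Fact.mk hp
  have h : (2 : ZMod p) ≠ 0 := fun e => by
    have e' : ((2 : ℕ) : ZMod p) = 0 := by exact_mod_cast e
    rw [ZMod.natCast_eq_zero_iff] at e'
    exact h2 ((Nat.prime_dvd_prime_iff_eq hp Nat.prime_two).1 e')
  exact ⟨fun e => h (by linear_combination e), h, one_ne_zero⟩

/-- An odd prime divisor of the order. -/
structure OddPrime (G : Type*) [Group G] (p : ℕ) : Prop where
  prime : p.Prime
  ne_two : p ≠ 2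
  dvd : p ∣ Nat.card G

theorem OddPrime.three_le {p : ℕ} (h : OddPrime G p) : 3 ≤ p := by
  have := h.prime.two_le
  have := h.ne_two
  omega

theorem OddPrime.mul_dvd {p q : ℕ} (hp : OddPrime G p) (hq : OddPrime G q) (h : p ≠ q) :
    p * q ∣ Nat.card G :=
  Nat.Coprime.mul_dvd_of_dvd_of_dvd ((Nat.coprime_primes hp.prime hq.prime).2 h) hp.dvd hq.dvd

theorem cast_cnt_prime {p : ℕ} (hp : OddPrime G p) : (cnt G p : ZMod p) = -1 := by
  have h := zmod_sum (G := G) hp.dvd dvd_rfl
  rw [sum_prime _ hp.prime, cnt_one, Nat.cast_one] at h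
  linear_combination h

theorem cast_cnt_pq {p q : ℕ} (hp : OddPrime G p) (hq : OddPrime G q) (hpq : p ≠ q) :
    (cnt G (p * q) : ZMod p) = -(cnt G q : ZMod p) := by
  have h := zmod_sum (G := G) (hp.mul_dvd hq hpq) (dvd_mul_right p q)
  rw [sum_pq _ hp.prime hq.prime hpq, cnt_one, Nat.cast_one, cast_cnt_prime hp] at h
  linear_combination h

theorem cnt_prime_pos {p : ℕ} (hp : OddPrime G p) : 0 < cnt G p := by
  have := Fact.mk hp.prime
  obtain ⟨x, hx⟩ := exists_prime_orderOf_dvd_card' p hp.dvd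
  exact cnt_pos hx

/-- At most two values at orders at least three. -/
structure Vals (G : Type*) [Group G] (a b : ℕ) : Prop where
  ne : a ≠ b
  big : ∀ m, 3 ≤ m → cnt G m = 0 ∨ cnt G m = a ∨ cnt G m = b

theorem Vals.symm {a b : ℕ} (h : Vals G a b) : Vals G b a :=
  ⟨h.ne.symm, fun m hm => (h.big m hm).imp id Or.symm⟩

theorem Vals.prime {a b : ℕ} (h : Vals G a b) {p : ℕ} (hp : OddPrime G p) : cnt G p = a ∨ cnt G p = b :=
  (h.big p hp.three_le).resolve_left (cnt_prime_pos hp).ne'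

variable {a b : ℕ}

theorem pair_same (h : Vals G a b) {p q : ℕ} (hp : OddPrime G p) (hq : OddPrime G q) (hpq : p ≠ q)
    (hpa : cnt G p = a) (hqa : cnt G q = a) : cnt G (p * q) = b ∧ (b : ZMod p) = 1 ∧ (b : ZMod q) = 1 := by
  obtain ⟨n1, -, n2⟩ := zmod_prime_ne hp.prime hp.ne_two
  obtain ⟨m1, -, m2⟩ := zmod_prime_ne hq.prime hq.ne_two
  have ea : (a : ZMod p) = -1 := hpa ▸ cast_cnt_prime hp
  have ea' : (a : ZMod q) = -1 := hqa ▸ cast_cnt_prime hq
  have e1 := cast_cnt_pq hp hq hpq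
  rw [hqa, ea, neg_neg] at e1
  have e2 := cast_cnt_pq hq hp hpq.symm
  rw [hpa, ea', neg_neg, mul_comm q p] at e2
  rcases h.big (p * q) (by have := hp.three_le; have := hq.three_le; nlinarith) with e | e | e <;>
    rw [e] at e1 e2
  · exact absurd (by simpa using e1.symm) n2
  · exact absurd (e1.symm.trans ea) n1
  · exact ⟨e, e1, e2⟩

theorem triple_false (h : Vals G a b) {p q r : ℕ} (hp : OddPrime G p) (hq : OddPrime G q) (hr : OddPrime G r)
    (hpq : p ≠ q) (hpr : p ≠ r) (hqr : q ≠ r) (hpa : cnt G p = a) (hqa : cnt G q = a) (hrb : cnt G r = b) :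
    False := by
  obtain ⟨epq, bp, bq⟩ := pair_same h hp hq hpq hpa hqa
  have one : ∀ s, OddPrime G s → s ≠ r → cnt G s = a → (b : ZMod s) = 1 →
      cnt G (s * r) = a ∧ (a : ZMod r) = 0 := by
    intro s hs hsr hsa bs
    obtain ⟨n1, -, n2⟩ := zmod_prime_ne hs.prime hs.ne_two
    obtain ⟨-, t2, -⟩ := zmod_prime_ne hr.prime hr.ne_two
    have e1 := cast_cnt_pq hs hr hsr
    rw [hrb, bs] at e1
    have e2 := cast_cnt_pq hr hs (Ne.symm hsr)
    rw [hsa, mul_comm r s] at e2
    rcases h.big (s * r) (by have := hs.three_le; have := hr.three_le; nlinarith) with e | e | e <;>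
      rw [e] at e1 e2
    · exact absurd (neg_eq_zero.1 (by simpa using e1.symm)) n2
    · refine ⟨e, ?_⟩
      have := Fact.mk hr.prime
      have : (2 : ZMod r) * (a : ZMod r) = 0 := by linear_combination e2
      exact (mul_eq_zero.1 this).resolve_left t2
    · exact absurd (bs.symm.trans e1) n1
  obtain ⟨epr, ar⟩ := one p hp hpr hpa bp
  obtain ⟨eqr, -⟩ := one q hq hqr hqa bq
  have br : (b : ZMod r) = -1 := hrb ▸ cast_cnt_prime hr
  obtain ⟨t1, -, t3⟩ := zmod_prime_ne hr.prime hr.ne_two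
  have hdiv : p * q * r ∣ Nat.card G := by
    refine Nat.Coprime.mul_dvd_of_dvd_of_dvd ?_ (hp.mul_dvd hq hpq) hr.dvd
    exact Nat.Coprime.mul_left ((Nat.coprime_primes hp.prime hr.prime).2 hpr)
      ((Nat.coprime_primes hq.prime hr.prime).2 hqr)
  have hnd : ¬ r ∣ p * q := fun e => by
    rcases hr.prime.dvd_mul.1 e with e | e
    · exact hpr ((Nat.prime_dvd_prime_iff_eq hr.prime hp.prime).1 e).symm
    · exact hqr ((Nat.prime_dvd_prime_iff_eq hr.prime hq.prime).1 e).symm
  have hs := zmod_sum (G := G) hdiv (dvd_mul_left r (p * q))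
  rw [sum_divisors_mul_prime _ (mul_ne_zero hp.prime.ne_zero hq.prime.ne_zero) hr.prime hnd,
    sum_pq _ hp.prime hq.prime hpq, sum_pq _ hp.prime hq.prime hpq, one_mul, cnt_one, hpa, hqa, hrb, epq, epr, eqr,
    ar, br, Nat.cast_one] at hs
  rcases h.big (p * q * r) (le_trans hr.three_le (Nat.le_mul_of_pos_left r (Nat.mul_pos hp.prime.pos hq.prime.pos))) with
    e | e | e <;> rw [e] at hs
  · rw [Nat.cast_zero] at hs; exact t3 (by linear_combination -hs)
  · rw [ar] at hs; exact t3 (by linear_combination -hs)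
  · rw [br] at hs; exact t1 (by linear_combination -hs)

theorem four_mod (h4 : 4 ∣ Nat.card G) (h2 : cnt G 2 = 1) : cnt G 4 % 4 = 2 := by
  have h := dvd_sum_cnt h4
  rw [sum_four, cnt_one, h2] at h
  omega

theorem four_dvd_cnt {m : ℕ} (h : 4 ∣ m.totient) : 4 ∣ cnt G m := h.trans (totient_dvd_cnt m)

theorem four_dvd_totient_four_mul {p : ℕ} (hp : p.Prime) (h2 : p ≠ 2) : 4 ∣ (4 * p).totient := by
  rw [Nat.totient_mul ((Nat.coprime_primes Nat.prime_two hp).2 h2.symm |>.pow_left 2),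
    show (4 : ℕ).totient = 2 from rfl, Nat.totient_prime hp]
  obtain ⟨k, hk⟩ := hp.odd_of_ne_two h2
  exact ⟨k, by omega⟩

theorem four_dvd_totient_mul {p q : ℕ} (hp : p.Prime) (hq : q.Prime) (hpq : p ≠ q) (h2 : p ≠ 2) (h2' : q ≠ 2) :
    4 ∣ (p * q).totient := by
  rw [Nat.totient_mul ((Nat.coprime_primes hp hq).2 hpq), Nat.totient_prime hp, Nat.totient_prime hq]
  obtain ⟨k, hk⟩ := hp.odd_of_ne_two h2
  obtain ⟨l, hl⟩ := hq.odd_of_ne_two h2'
  exact ⟨k * l, by subst hk; subst hl; simp; ring⟩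

/-- Congruences at `2p` and `4p`. -/
theorem cast_two_four {p : ℕ} (hp : OddPrime G p) (h4 : 4 ∣ Nat.card G) (h2 : cnt G 2 = 1) :
    (cnt G (2 * p) : ZMod p) = -1 ∧ (cnt G (4 * p) : ZMod p) = -(cnt G 4 : ZMod p) := by
  have hc2 : Nat.Coprime 2 p := (Nat.coprime_primes Nat.prime_two hp.prime).2 hp.ne_two.symm
  have e2 := zmod_sum (G := G) (hc2.mul_dvd_of_dvd_of_dvd ((show (2 : ℕ) ∣ 4 by norm_num).trans h4) hp.dvd)
    (dvd_mul_left p 2)
  rw [sum_pq _ Nat.prime_two hp.prime hp.ne_two.symm, cnt_one, h2, cast_cnt_prime hp, Nat.cast_one] at e2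
  have hnd : ¬ p ∣ 4 := fun e => hp.ne_two ((Nat.prime_dvd_prime_iff_eq hp.prime Nat.prime_two).1
    (hp.prime.dvd_of_dvd_pow (show p ∣ 2 ^ 2 from e)))
  have e4 := zmod_sum (G := G) ((hc2.pow_left 2).mul_dvd_of_dvd_of_dvd h4 hp.dvd) (dvd_mul_left p (2 ^ 2))
  rw [show (2 : ℕ) ^ 2 = 4 from rfl, sum_divisors_mul_prime _ (by norm_num) hp.prime hnd, sum_four, sum_four, one_mul,
    cnt_one, h2, cast_cnt_prime hp, Nat.cast_one] at e4
  refine ⟨by linear_combination e2, by linear_combination e4 - e2⟩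

/-- Two primes with different values and an element of order four. -/
theorem split_four_false (h : Vals G a b) {p q : ℕ} (hp : OddPrime G p) (hq : OddPrime G q) (hpq : p ≠ q)
    (hpa : cnt G p = a) (hqb : cnt G q = b) (h4 : 4 ∣ Nat.card G) (h2 : cnt G 2 = 1) (hv : cnt G 4 = a) :
    False := by
  obtain ⟨n1, n2, n3⟩ := zmod_prime_ne hp.prime hp.ne_two
  have := Fact.mk hp.prime
  have ea : (a : ZMod p) = -1 := hpa ▸ cast_cnt_prime hp
  have ha4 : a % 4 = 2 := hv ▸ four_mod h4 h2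
  have hb : (b : ZMod p) = 0 := by
    have e1 := cast_cnt_pq hp hq hpq
    rw [hqb] at e1
    rcases h.big (p * q) (by have := hp.three_le; have := hq.three_le; nlinarith) with e | e | e <;> rw [e] at e1
    · rw [Nat.cast_zero] at e1; linear_combination e1
    · have := e ▸ four_dvd_cnt (G := G) (four_dvd_totient_mul hp.prime hq.prime hpq hp.ne_two hq.ne_two)
      omega
    · have : (2 : ZMod p) * (b : ZMod p) = 0 := by linear_combination e1
      exact (mul_eq_zero.1 this).resolve_left n2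
  have e4 := (cast_two_four hp h4 h2).2
  rw [hv, ea, neg_neg] at e4
  rcases h.big (4 * p) (by have := hp.three_le; omega) with e | e | e
  · rw [e, Nat.cast_zero] at e4; exact n3 e4.symm
  · have := e ▸ four_dvd_cnt (G := G) (four_dvd_totient_four_mul hp.prime hp.ne_two)
    omega
  · rw [e, hb] at e4; exact n3 e4.symm

/-- All odd primes with one value and an element of order four. -/
theorem same_four_false (h : Vals G a b) {p q : ℕ} (hp : OddPrime G p) (hq : OddPrime G q) (hpq : p ≠ q)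
    (hpa : cnt G p = a) (hqa : cnt G q = a) (h4 : 4 ∣ Nat.card G) (h2 : cnt G 2 = 1) : False := by
  obtain ⟨epq, bp, bq⟩ := pair_same h hp hq hpq hpa hqa
  have hb4 : 4 ∣ b := epq ▸ four_dvd_cnt (four_dvd_totient_mul hp.prime hq.prime hpq hp.ne_two hq.ne_two)
  have hv4 := four_mod h4 h2
  have hv : cnt G 4 = a := by
    rcases h.big 4 (by norm_num) with e | e | e
    · omega
    · exact e
    · omega
  have ha4 : a % 4 = 2 := hv ▸ hv4
  have two : ∀ s, OddPrime G s → cnt G s = a → (b : ZMod s) = 1 →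
      cnt G (2 * s) = a ∧ cnt G (4 * s) = b := by
    intro s hs hsa bs
    obtain ⟨n1, -, n3⟩ := zmod_prime_ne hs.prime hs.ne_two
    have ea : (a : ZMod s) = -1 := hsa ▸ cast_cnt_prime hs
    obtain ⟨e2, e4⟩ := cast_two_four hs h4 h2
    rw [hv, ea, neg_neg] at e4
    refine ⟨?_, ?_⟩
    · rcases h.big (2 * s) (by have := hs.three_le; omega) with e | e | e <;> rw [e] at e2
      · exact absurd (neg_eq_zero.1 (by simpa using e2.symm)) n3
      · exact e
      · exact absurd (bs.symm.trans e2) n1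
    · rcases h.big (4 * s) (by have := hs.three_le; omega) with e | e | e <;> rw [e] at e4
      · exact absurd (by simpa using e4.symm) n3
      · exact absurd (e4.symm.trans ea) n1
      · exact e
  obtain ⟨p2, p4⟩ := two p hp hpa bp
  obtain ⟨q2, q4⟩ := two q hq hqa bq
  obtain ⟨n1, -, n3⟩ := zmod_prime_ne hp.prime hp.ne_two
  have ea : (a : ZMod p) = -1 := hpa ▸ cast_cnt_prime hp
  have hc2p : Nat.Coprime 2 p := (Nat.coprime_primes Nat.prime_two hp.prime).2 hp.ne_two.symm
  have hc2q : Nat.Coprime 2 q := (Nat.coprime_primes Nat.prime_two hq.prime).2 hq.ne_two.symm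
  have hcpq : Nat.Coprime p q := (Nat.coprime_primes hp.prime hq.prime).2 hpq
  have hnd2 : ¬ p ∣ 2 * q := hp.prime.coprime_iff_not_dvd.1 (Nat.Coprime.mul_right hc2p.symm hcpq)
  have hnd4 : ¬ p ∣ 4 * q := hp.prime.coprime_iff_not_dvd.1
    (Nat.Coprime.mul_right (hc2p.symm.pow_right 2 : Nat.Coprime p 4) hcpq)
  have hnq4 : ¬ q ∣ 4 := hq.prime.coprime_iff_not_dvd.1 (hc2q.symm.pow_right 2 : Nat.Coprime q 4)
  have d2 : 2 * q * p ∣ Nat.card G :=
    (Nat.Coprime.mul_left hc2p hcpq.symm).mul_dvd_of_dvd_of_dvd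
      (hc2q.mul_dvd_of_dvd_of_dvd ((show (2 : ℕ) ∣ 4 by norm_num).trans h4) hq.dvd) hp.dvd
  have d4 : 4 * q * p ∣ Nat.card G :=
    (Nat.Coprime.mul_left (hc2p.pow_left 2 : Nat.Coprime 4 p) hcpq.symm).mul_dvd_of_dvd_of_dvd
      ((hc2q.pow_left 2 : Nat.Coprime 4 q).mul_dvd_of_dvd_of_dvd h4 hq.dvd) hp.dvd
  have s2 := zmod_sum (G := G) d2 (dvd_mul_left p _)
  rw [sum_divisors_mul_prime _ (mul_ne_zero two_ne_zero hq.prime.ne_zero) hp.prime hnd2,
    sum_pq _ Nat.prime_two hq.prime hq.ne_two.symm, sum_pq _ Nat.prime_two hq.prime hq.ne_two.symm, one_mul,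
    cnt_one, h2, hqa, q2, hpa, p2, mul_comm q p, epq, ea, bp, Nat.cast_one] at s2
  have s4 := zmod_sum (G := G) d4 (dvd_mul_left p _)
  rw [sum_divisors_mul_prime _ (mul_ne_zero (by norm_num) hq.prime.ne_zero) hp.prime hnd4,
    sum_divisors_mul_prime _ (by norm_num) hq.prime hnq4, sum_divisors_mul_prime _ (by norm_num) hq.prime hnq4,
    sum_four, sum_four, sum_four, sum_four, one_mul, one_mul,
    cnt_one, h2, hv, hqa, q2, q4, hpa, p2, p4, mul_comm q p, epq, ea, bp, Nat.cast_one] at s4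
  have hd : 4 ∣ cnt G (4 * q * p) := by
    refine four_dvd_cnt ?_
    rw [show 4 * q * p = 4 * (q * p) from mul_assoc 4 q p, Nat.totient_mul (Nat.Coprime.mul_right
      (hc2q.pow_left 2 : Nat.Coprime 4 q) (hc2p.pow_left 2 : Nat.Coprime 4 p)), mul_comm]
    exact dvd_mul_of_dvd_left (four_dvd_totient_mul hq.prime hp.prime hpq.symm hq.ne_two hp.ne_two) _
  rcases h.big (4 * q * p) (by have := hp.three_le; have := hq.three_le; nlinarith) with e | e | e
  · rw [e, Nat.cast_zero] at s4; exact n3 (by linear_combination s4 - s2)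
  · rw [e] at hd; omega
  · rw [e, bp] at s4; exact n1 (by linear_combination (s4 - s2) - (0 : ZMod p))

/-- All odd primes with one value and at most one two. -/
theorem same_false (h : Vals G a b) {p q : ℕ} (hp : OddPrime G p) (hq : OddPrime G q) (hpq : p ≠ q)
    (hall : ∀ s, OddPrime G s → cnt G s = a) (h2 : 2 ∣ Nat.card G → cnt G 2 = 1) : False := by
  have hsq : ∀ s, OddPrime G s → ∀ g : G, orderOf g ≠ s ^ (1 + 1) := by
    intro s hs g hg
    obtain ⟨t, ht, hst⟩ : ∃ t, OddPrime G t ∧ s ≠ t := by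
      rcases eq_or_ne s p with rfl | hsp
      · exact ⟨q, hq, hpq⟩
      · exact ⟨p, hp, hsp⟩
    obtain ⟨-, bs, -⟩ := pair_same h hs ht hst (hall s hs) (hall t ht)
    obtain ⟨n1, -, n3⟩ := zmod_prime_ne hs.prime hs.ne_two
    have hd : s ∣ cnt G (s ^ (1 + 1)) := by
      refine dvd_trans ?_ (totient_dvd_cnt _)
      rw [Nat.totient_prime_pow hs.prime (by norm_num)]
      exact dvd_mul_of_dvd_left (by simp) _
    rw [← ZMod.natCast_eq_zero_iff] at hd
    rcases h.big (s ^ (1 + 1)) (le_trans hs.three_le (Nat.le_self_pow (by norm_num) s)) with e | e | e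
    · exact (cnt_pos hg).ne' e
    · rw [e, ← hall s hs, cast_cnt_prime hs] at hd; exact n3 (neg_eq_zero.1 hd)
    · rw [e, bs] at hd; exact n3 hd
  have hM : ∀ M, M ∣ Nat.card G → ¬ 2 ∣ M → M ∣ a + 1 := by
    intro M hM hMo
    refine (Nat.dvd_iff_prime_pow_dvd_dvd _ _).2 fun s k hs hk => ?_
    rcases Nat.eq_zero_or_pos k with rfl | hk0
    · simp
    have hsM : s ∣ M := (dvd_pow_self s hk0.ne').trans hk
    have hS : OddPrime G s := ⟨hs, fun e => hMo (e ▸ hsM), hsM.trans hM⟩
    have hF := FrobeniusCount.dvd_card_pow_eq_one (G := G) (n := s ^ k) (hk.trans hM)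
    have heq : Nat.card {x : G // x ^ (s ^ k) = 1} = Nat.card {x : G // x ^ s = 1} := by
      refine Nat.card_congr (Equiv.subtypeEquivRight fun x => ⟨fun hx => ?_, fun hx => ?_⟩)
      · simpa using S3995.pow_eq_one_of_no_next hs (c := 1) (hsq s hS) hx
      · obtain ⟨c, hc⟩ := dvd_pow_self s hk0.ne'
        rw [hc, pow_mul, hx, one_pow]
    rw [heq, S3995.card_prime_pow_eq_one hs, show Nat.card {g : G // orderOf g = s} = a from hall s hS,
      Nat.add_comm] at hF
    exact hF
  obtain ⟨epq, bp, -⟩ := pair_same h hp hq hpq (hall p hp) (hall q hq)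
  have hb : 0 < b := by
    rcases Nat.eq_zero_or_pos b with e | e
    · rw [e, Nat.cast_zero] at bp
      exact absurd bp.symm (zmod_prime_ne hp.prime hp.ne_two).2.2
    · exact e
  have p3 := hp.three_le
  have q3 := hq.three_le
  have hpp : p ≠ p * q := fun e => by nlinarith
  have hqq : q ≠ p * q := fun e => by nlinarith
  have h1 : 1 ≠ p * q := by nlinarith
  have h2' : 2 ≠ p * q := by nlinarith
  by_cases heven : 2 ∣ Nat.card G
  · by_cases h4 : 4 ∣ Nat.card G
    · exact same_four_false h hp hq hpq (hall p hp) (hall q hq) h4 (h2 heven)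
    obtain ⟨M, hMe⟩ := heven
    have hMa := Nat.le_of_dvd (by omega) (hM M ⟨2, by rw [hMe, mul_comm]⟩ (fun ⟨c, hc⟩ => h4 ⟨c, by omega⟩))
    have hsum := SmallOrder.card_orderOf_disjoint_le (G := G) {1, 2, p, q, p * q}
    rw [Finset.sum_insert (by simp only [Finset.mem_insert, Finset.mem_singleton]; omega),
      Finset.sum_insert (by simp only [Finset.mem_insert, Finset.mem_singleton]; omega),
      Finset.sum_insert (by simp only [Finset.mem_insert, Finset.mem_singleton]; omega),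
      Finset.sum_pair (by omega)] at hsum
    change cnt G 1 + (cnt G 2 + (cnt G p + (cnt G q + cnt G (p * q)))) ≤ _ at hsum
    rw [cnt_one, h2 ⟨M, hMe⟩, hall p hp, hall q hq, epq, hMe] at hsum
    omega
  · have hMa := Nat.le_of_dvd (by omega) (hM _ dvd_rfl heven)
    have hsum := SmallOrder.card_orderOf_disjoint_le (G := G) {1, p, q, p * q}
    rw [Finset.sum_insert (by simp only [Finset.mem_insert, Finset.mem_singleton]; omega),
      Finset.sum_insert (by simp only [Finset.mem_insert, Finset.mem_singleton]; omega),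
      Finset.sum_pair (by omega)] at hsum
    change cnt G 1 + (cnt G p + (cnt G q + cnt G (p * q))) ≤ _ at hsum
    rw [cnt_one, hall p hp, hall q hq, epq] at hsum
    omega

/-- At least three odd primes are impossible. -/
theorem three_false (h : Vals G a b) {p q r : ℕ} (hp : OddPrime G p) (hq : OddPrime G q) (hr : OddPrime G r)
    (hpq : p ≠ q) (hpr : p ≠ r) (hqr : q ≠ r) (h2 : 2 ∣ Nat.card G → cnt G 2 = 1) : False := by
  have pr : ∀ {a b : ℕ}, Vals G a b → ∀ {s t : ℕ}, OddPrime G s → OddPrime G t → s ≠ t →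
      cnt G s = a → cnt G t = a → False := by
    intro a b h s t hs ht hst hsa hta
    refine same_false h hs ht hst (fun u hu => ?_) h2
    rcases h.prime hu with e | e
    · exact e
    · rcases eq_or_ne u s with rfl | hus
      · exact hsa
      rcases eq_or_ne u t with rfl | hut
      · exact hta
      exact (triple_false h hs ht hu hst hus.symm hut.symm hsa hta e).elim
  rcases h.prime hp with hp' | hp' <;> rcases h.prime hq with hq' | hq' <;> rcases h.prime hr with hr' | hr'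
  all_goals first
    | exact pr h hp hq hpq hp' hq'
    | exact pr h hp hr hpr hp' hr'
    | exact pr h hq hr hqr hq' hr'
    | exact pr h.symm hp hq hpq hp' hq'
    | exact pr h.symm hp hr hpr hp' hr'
    | exact pr h.symm hq hr hqr hq' hr'

end Cfsg.Agent.NSEThree
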