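import Cfsg.Agent.NSEThree.Basic
import Cfsg.Agent.S0144

/-!
Three values for the numbers of elements of each order: at most two odd primes, and solvability.
-/

set_option autoImplicit false

namespace Cfsg.Agent.NSEThree

open Subgroup

variable {G : Type*} [Group G] [Finite G]

theorem exists_vals (h : (((fun m : ℕ => Nat.card {g : G // orderOf g = m}) '' Set.range (orderOf : G → ℕ))).ncard = 3) :
    ∃ a b, Vals G a b ∧ (∀ x : G, cnt G (orderOf x) = 1 ∨ cnt G (orderOf x) = a ∨ cnt G (orderOf x) = b) := by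
  set S := (fun m : ℕ => Nat.card {g : G // orderOf g = m}) '' Set.range (orderOf : G → ℕ) with hS
  have h1 : 1 ∈ S := ⟨1, ⟨1, orderOf_one⟩, cnt_one⟩
  have h2 : (S \ {1}).ncard = 2 := by
    rw [Set.ncard_sdiff_singleton_of_mem h1, h]
  obtain ⟨a, b, hab, he⟩ := Set.ncard_eq_two.1 h2
  have hmem : ∀ x : G, cnt G (orderOf x) = 1 ∨ cnt G (orderOf x) = a ∨ cnt G (orderOf x) = b := by
    intro x
    by_cases e : cnt G (orderOf x) = 1
    · exact Or.inl e
    · have : cnt G (orderOf x) ∈ S \ {1} := ⟨⟨orderOf x, ⟨x, rfl⟩, rfl⟩, e⟩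
      rw [he] at this
      exact Or.inr this
  refine ⟨a, b, ⟨hab, fun m hm => ?_⟩, hmem⟩
  rcases Nat.eq_zero_or_pos (cnt G m) with e | e
  · exact Or.inl e
  · obtain ⟨⟨⟨x, hx⟩⟩, -⟩ := Nat.card_pos_iff.1 e
    have hne : cnt G m ≠ 1 := fun e1 => by
      have := (Nat.totient_even hm).two_dvd.trans (totient_dvd_cnt (G := G) m)
      rw [e1] at this
      norm_num at this
    have := hmem x
    rw [hx] at this
    exact Or.inr (this.resolve_left hne)

variable {a b : ℕ}

/-- Alternatives: the order has at most one odd prime, or exactly two. -/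
theorem prime_cases (h : Vals G a b) (h2 : 2 ∣ Nat.card G → cnt G 2 = 1) :
    (∃ p, p.Prime ∧ (Nat.card G).primeFactors ⊆ {2, p}) ∨
    ∃ p q, OddPrime G p ∧ OddPrime G q ∧ p ≠ q ∧ (∀ s, OddPrime G s → s = p ∨ s = q) ∧ cnt G p = a ∧ cnt G q = b := by
  by_cases h0 : ∃ p q, OddPrime G p ∧ OddPrime G q ∧ p ≠ q
  · obtain ⟨p, q, hp, hq, hpq⟩ := h0
    have hall : ∀ s, OddPrime G s → s = p ∨ s = q := fun s hs => by
      by_contra hc
      push Not at hc
      exact three_false h hp hq hs hpq hc.1.symm hc.2.symm h2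
    rcases h.prime hp with e | e <;> rcases h.prime hq with e' | e'
    · exact (same_false h hp hq hpq (fun s hs => by rcases hall s hs with rfl | rfl <;> assumption) h2).elim
    · exact Or.inr ⟨p, q, hp, hq, hpq, hall, e, e'⟩
    · exact Or.inr ⟨q, p, hq, hp, hpq.symm, fun s hs => (hall s hs).symm, e', e⟩
    · exact (same_false h.symm hp hq hpq (fun s hs => by rcases hall s hs with rfl | rfl <;> assumption) h2).elim
  · push Not at h0
    left
    by_cases h1 : ∃ p, OddPrime G p
    · obtain ⟨p, hp⟩ := h1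
      refine ⟨p, hp.prime, fun s hs => ?_⟩
      rw [Nat.mem_primeFactors] at hs
      rw [Finset.mem_insert, Finset.mem_singleton]
      by_cases e : s = 2
      · exact Or.inl e
      · exact Or.inr (h0 s p ⟨hs.1, e, hs.2.1⟩ hp)
    · push Not at h1
      refine ⟨2, Nat.prime_two, fun s hs => ?_⟩
      rw [Nat.mem_primeFactors] at hs
      by_contra hc
      rw [Finset.mem_insert, Finset.mem_singleton] at hc
      push Not at hc
      exact h1 s ⟨hs.1, hc.1, hs.2.1⟩

theorem solvable_of_primeFactors {p q : ℕ} (hp : p.Prime) (hq : q.Prime)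
    (h : (Nat.card G).primeFactors ⊆ {p, q}) : Group.IsSolvable G := by
  rcases eq_or_ne p q with rfl | hpq
  · refine S0144.result p p ((Nat.card G).factorization p) 0 hp hp ?_
    rw [pow_zero, mul_one]
    conv_lhs => rw [← Nat.prod_factorization_pow_eq_self (Nat.card_pos (α := G)).ne']
    rw [Finsupp.prod_of_support_subset _ (s := {p}) (by simpa using h) _ (by simp), Finset.prod_singleton]
  · refine S0144.result p q ((Nat.card G).factorization p) ((Nat.card G).factorization q) hp hq ?_
    conv_lhs => rw [← Nat.prod_factorization_pow_eq_self (Nat.card_pos (α := G)).ne']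
    rw [Finsupp.prod_of_support_subset _ (s := {p, q}) (by simpa using h) _ (by simp), Finset.prod_pair hpq]

/-- The only involution is central, so the group is solvable when the rest of the order has two primes. -/
theorem solvable_of_central_two {p q : ℕ} (hp : p.Prime) (hq : q.Prime) (h2 : 2 ∣ Nat.card G)
    (h4 : ¬ 4 ∣ Nat.card G) (hc : cnt G 2 = 1) (hall : ∀ s, OddPrime G s → s = p ∨ s = q) :
    Group.IsSolvable G := by
  have := Fact.mk Nat.prime_two
  obtain ⟨z, hz⟩ := exists_prime_orderOf_dvd_card' 2 h2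
  have huniq : ∀ w : G, orderOf w = 2 → w = z := fun w hw =>
    congrArg Subtype.val ((Nat.card_eq_one_iff_unique.1 hc).1.elim (⟨w, hw⟩ : {g : G // orderOf g = 2}) ⟨z, hz⟩)
  have hn : (zpowers z).Normal := ⟨fun x hx g => by
    obtain ⟨k, rfl⟩ := mem_zpowers_iff.1 hx
    have := huniq (g * z * g⁻¹) (by rw [show g * z * g⁻¹ = MulAut.conj g z from rfl, MulEquiv.orderOf_eq, hz])
    rw [← conj_zpow, this]
    exact zpow_mem (mem_zpowers z) k⟩
  have hcard : Nat.card (G ⧸ zpowers z) * 2 = Nat.card G := by
    rw [← hz, ← Nat.card_zpowers]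
    exact ((zpowers z).card_eq_card_quotient_mul_card_subgroup).symm
  have hquot : Group.IsSolvable (G ⧸ zpowers z) := by
    refine solvable_of_primeFactors hp hq fun s hs => ?_
    rw [Nat.mem_primeFactors] at hs
    have hne : s ≠ 2 := by
      rintro rfl
      obtain ⟨c, hcc⟩ := hs.2.1
      exact h4 ⟨c, by rw [← hcard, hcc]; ring⟩
    rw [Finset.mem_insert, Finset.mem_singleton]
    exact hall s ⟨hs.1, hne, hs.2.1.trans ⟨2, hcard.symm⟩⟩
  have hsub : Group.IsSolvable (zpowers z) := inferInstance
  exact Group.isSolvable_of_ker_le_range (zpowers z).subtype (QuotientGroup.mk' (zpowers z))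
    (by rw [QuotientGroup.ker_mk', range_subtype])

/-- Three values force solvability. -/
theorem solvable_of_three
    (h : (((fun m : ℕ => Nat.card {g : G // orderOf g = m}) '' Set.range (orderOf : G → ℕ))).ncard = 3) :
    Group.IsSolvable G := by
  obtain ⟨a, b, hV, hval⟩ := exists_vals h
  by_cases hE : 2 ∣ Nat.card G ∧ cnt G 2 ≠ 1
  · obtain ⟨h2, hne⟩ := hE
    have := Fact.mk Nat.prime_two
    obtain ⟨z, hz⟩ := exists_prime_orderOf_dvd_card' 2 h2
    have hodd : ¬ 2 ∣ cnt G 2 := by
      have := dvd_sum_cnt (G := G) h2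
      rw [sum_prime _ Nat.prime_two, cnt_one] at this
      omega
    obtain ⟨a, b, hV, ha⟩ : ∃ a b, Vals G a b ∧ cnt G 2 = a := by
      have := hval z
      rw [hz] at this
      rcases this with e | e | e
      · exact absurd e hne
      · exact ⟨a, b, hV, e⟩
      · exact ⟨b, a, hV.symm, e⟩
    have hbig : ∀ m, 3 ≤ m → cnt G m ≠ a := fun m hm e =>
      hodd ((ha.trans e.symm) ▸ (Nat.totient_even hm).two_dvd.trans (totient_dvd_cnt m))
    have hone : ∀ p q, OddPrime G p → OddPrime G q → p ≠ q → False := fun p q hp hq hpq => by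
      obtain ⟨e, -, -⟩ := pair_same hV.symm hp hq hpq ((hV.prime hp).resolve_left (hbig p hp.three_le))
        ((hV.prime hq).resolve_left (hbig q hq.three_le))
      exact hbig (p * q) (le_trans hq.three_le (Nat.le_mul_of_pos_left q hp.prime.pos)) e
    by_cases h1 : ∃ p, OddPrime G p
    · obtain ⟨p, hp⟩ := h1
      refine solvable_of_primeFactors Nat.prime_two hp.prime fun s hs => ?_
      rw [Nat.mem_primeFactors] at hs
      rw [Finset.mem_insert, Finset.mem_singleton]
      by_cases e : s = 2
      · exact Or.inl e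
      · by_contra hc
        push Not at hc
        exact hone s p ⟨hs.1, e, hs.2.1⟩ hp hc.2
    · push Not at h1
      refine solvable_of_primeFactors Nat.prime_two Nat.prime_two fun s hs => ?_
      rw [Nat.mem_primeFactors] at hs
      by_contra hc
      rw [Finset.mem_insert, Finset.mem_singleton, or_self] at hc
      exact h1 s ⟨hs.1, hc, hs.2.1⟩
  · push Not at hE
    rcases prime_cases hV hE with ⟨p, hp, hsub⟩ | ⟨p, q, hp, hq, hpq, hall, ea, eb⟩
    · exact solvable_of_primeFactors Nat.prime_two hp hsub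
    by_cases h2 : 2 ∣ Nat.card G
    · by_cases h4 : 4 ∣ Nat.card G
      · have := four_mod h4 (hE h2)
        rcases hV.big 4 (by norm_num) with e | e | e
        · omega
        · exact (split_four_false hV hp hq hpq ea eb h4 (hE h2) e).elim
        · exact (split_four_false hV.symm hq hp hpq.symm eb ea h4 (hE h2) e).elim
      · exact solvable_of_central_two hp.prime hq.prime h2 h4 (hE h2) hall
    · refine solvable_of_primeFactors hp.prime hq.prime fun s hs => ?_
      rw [Nat.mem_primeFactors] at hs
      rw [Finset.mem_insert, Finset.mem_singleton]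
      exact hall s ⟨hs.1, fun e => h2 (e ▸ hs.2.1), hs.2.1⟩

end Cfsg.Agent.NSEThree
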