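import Cfsg.Agent.NSEThree.Main
import Cfsg.Agent.S3992
import Cfsg.Agent.Core.FrobeniusGroup

/-!
Odd order and three values: exponents are prime and a Sylow subgroup of prime order is a Frobenius complement.
-/

set_option autoImplicit false

namespace Cfsg.Agent.NSEThree

open Subgroup

universe u

variable {G : Type u} [Group G] [Finite G]

/-- A `p`-element centralizes an element of order `m` when `p` does not divide their number. -/
theorem exists_commute_of_not_dvd {p m : ℕ} (hp : p.Prime) {x : G} (hx : orderOf x = p)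
    (h : ¬ p ∣ cnt G m) : ∃ y : G, orderOf y = m ∧ Commute x y := by
  have := Fact.mk hp
  let act : MulAction (zpowers x) {g : G // orderOf g = m} :=
    { smul := fun k g => ⟨(k : G) * g * (k : G)⁻¹, by
        rw [show (k : G) * g * (k : G)⁻¹ = MulAut.conj (k : G) g from rfl, MulEquiv.orderOf_eq]; exact g.2⟩
      one_smul := fun g => Subtype.ext (show ((1 : zpowers x) : G) * g * ((1 : zpowers x) : G)⁻¹ = g by simp)
      mul_smul := fun k l g => Subtype.ext (show ((k * l : zpowers x) : G) * g * ((k * l : zpowers x) : G)⁻¹ =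
        (k : G) * ((l : G) * g * (l : G)⁻¹) * (k : G)⁻¹ by push_cast; group) }
  have hP : IsPGroup p (zpowers x) := IsPGroup.of_card (n := 1) (by rw [Nat.card_zpowers, hx, pow_one])
  obtain ⟨y, hy⟩ := hP.nonempty_fixed_point_of_prime_not_dvd_card {g : G // orderOf g = m} h
  refine ⟨y, y.2, ?_⟩
  have := congrArg Subtype.val (hy ⟨x, mem_zpowers x⟩)
  change x * (y : G) * x⁻¹ = y at this
  exact mul_inv_eq_iff_eq_mul.1 this

theorem no_value_at_pq {a b : ℕ} {p q : ℕ} (hp : OddPrime G p) (hq : OddPrime G q)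
    (hpq : p ≠ q) (hpa : cnt G p = a) (hqb : cnt G q = b) : cnt G (p * q) ≠ a := by
  intro e
  obtain ⟨-, -, n3⟩ := zmod_prime_ne hp.prime hp.ne_two
  have h1 := cast_cnt_pq hp hq hpq
  rw [e, ← hpa, cast_cnt_prime hp] at h1
  have hnd : ¬ p ∣ cnt G q := fun hd => n3 (by
    rw [← ZMod.natCast_eq_zero_iff] at hd
    linear_combination -h1 + hd)
  choose y hy hc using fun x : {g : G // orderOf g = p} => exists_commute_of_not_dvd hp.prime x.2 hnd
  have hcop : Nat.Coprime p q := (Nat.coprime_primes hp.prime hq.prime).2 hpq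
  let f : {g : G // orderOf g = p} × Bool → {g : G // orderOf g = p * q} := fun z =>
    ⟨(z.1 : G) * bif z.2 then y z.1 else (y z.1)⁻¹, by
      cases z.2 <;> simp only [cond_true, cond_false]
      · rw [(hc z.1).inv_right.orderOf_mul_eq_mul_orderOf_of_coprime
          (by rw [orderOf_inv, z.1.2, hy]; exact hcop), orderOf_inv, z.1.2, hy]
      · rw [(hc z.1).orderOf_mul_eq_mul_orderOf_of_coprime (by rw [z.1.2, hy]; exact hcop), z.1.2, hy]⟩
  have hfq : ∀ z, (f z : G) ^ q = (z.1 : G) ^ q := by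
    intro z
    show ((z.1 : G) * bif z.2 then y z.1 else (y z.1)⁻¹) ^ q = _
    cases z.2 <;> simp only [cond_true, cond_false]
    · rw [(hc z.1).inv_right.mul_pow, inv_pow, ← hy z.1, pow_orderOf_eq_one, inv_one, mul_one]
    · rw [(hc z.1).mul_pow, ← hy z.1, pow_orderOf_eq_one, mul_one]
  have hinj : Function.Injective f := by
    intro z w hzw
    have hv := congrArg Subtype.val hzw
    have h2 := congrArg (fun g : G => g ^ q) hv
    simp only [hfq] at h2
    obtain ⟨k, hk⟩ := Nat.exists_mul_mod_eq_one_of_coprime hcop.symm hp.prime.one_lt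
    have h3 : z.1 = w.1 := by
      refine Subtype.ext ?_
      have := congrArg (fun g : G => g ^ k) h2
      simp only [← pow_mul] at this
      rwa [← pow_mod_orderOf, z.1.2, hk.2, pow_one, ← pow_mod_orderOf, w.1.2, hk.2, pow_one] at this
    obtain ⟨z1, z2⟩ := z
    obtain ⟨w1, w2⟩ := w
    obtain rfl : z1 = w1 := h3
    refine Prod.ext rfl ?_
    have hne : y z1 ≠ (y z1)⁻¹ := fun e1 => by
      have : orderOf (y z1) ∣ 2 := orderOf_dvd_of_pow_eq_one (by rw [sq]; exact mul_eq_one_iff_eq_inv.2 e1)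
      rw [hy] at this
      exact hq.ne_two ((Nat.prime_dvd_prime_iff_eq hq.prime Nat.prime_two).1 this)
    cases z2 <;> cases w2
    · rfl
    · exact absurd (mul_left_cancel hv).symm hne
    · exact absurd (mul_left_cancel hv) hne
    · rfl
  have hle := Nat.card_le_card_of_injective f hinj
  rw [Nat.card_prod, Nat.card_eq_fintype_card (α := Bool), Fintype.card_bool] at hle
  have := cnt_prime_pos hp
  change cnt G p * 2 ≤ cnt G (p * q) at hle
  rw [e, ← hpa] at hle
  omega

theorem eq_zero_at_pq {a b : ℕ} (h : Vals G a b) {p q : ℕ} (hp : OddPrime G p) (hq : OddPrime G q)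
    (hpq : p ≠ q) (hpa : cnt G p = a) (hqb : cnt G q = b) : cnt G (p * q) = 0 := by
  rcases h.big (p * q) (le_trans hq.three_le (Nat.le_mul_of_pos_left q hp.prime.pos)) with e | e | e
  · exact e
  · exact (no_value_at_pq hp hq hpq hpa hqb e).elim
  · exact (no_value_at_pq hq hp hpq.symm hqb hpa (by rwa [mul_comm])).elim

theorem eq_zero_at_sq {a b : ℕ} (h : Vals G a b) {p q : ℕ} (hp : OddPrime G p) (hq : OddPrime G q)
    (hpq : p ≠ q) (hpa : cnt G p = a) (hqb : cnt G q = b) : cnt G (p ^ 2) = 0 := by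
  have h0 := eq_zero_at_pq h hp hq hpq hpa hqb
  have hd : p ∣ cnt G (p ^ 2) := by
    refine dvd_trans ?_ (totient_dvd_cnt _)
    rw [Nat.totient_prime_pow hp.prime (by norm_num)]
    exact dvd_mul_of_dvd_left (by simp) _
  have hdq : q ∣ cnt G (p ^ 2) := by
    by_contra hc
    have := Fact.mk hq.prime
    obtain ⟨y, hy⟩ := exists_prime_orderOf_dvd_card' q hq.dvd
    obtain ⟨g, hg, hyg⟩ := exists_commute_of_not_dvd hq.prime hy hc
    have hgp : orderOf (g ^ p) = p := by
      rw [orderOf_pow' g hp.prime.ne_zero, hg, Nat.gcd_eq_right (dvd_pow_self p two_ne_zero),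
        Nat.div_eq_of_eq_mul_left hp.prime.pos (sq p)]
    refine (cnt_pos (G := G) (g := g ^ p * y) ?_).ne' h0
    rw [(hyg.symm.pow_left p).orderOf_mul_eq_mul_orderOf_of_coprime
      (by rw [hgp, hy]; exact (Nat.coprime_primes hp.prime hq.prime).2 hpq), hgp, hy]
  rw [← ZMod.natCast_eq_zero_iff] at hd hdq
  rcases h.big (p ^ 2) (le_trans hp.three_le (Nat.le_self_pow two_ne_zero p)) with e | e | e
  · exact e
  · rw [e, ← hpa, cast_cnt_prime hp] at hd
    exact absurd (neg_eq_zero.1 hd) (zmod_prime_ne hp.prime hp.ne_two).2.2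
  · rw [e, ← hqb, cast_cnt_prime hq] at hdq
    exact absurd (neg_eq_zero.1 hdq) (zmod_prime_ne hq.prime hq.ne_two).2.2

/-- Every element is killed by one of two primes. -/
structure TwoPrimeExp (G : Type*) [Group G] (p q : ℕ) : Prop where
  hp : OddPrime G p
  hq : OddPrime G q
  ne : p ≠ q
  exp : ∀ t : G, t ^ p = 1 ∨ t ^ q = 1

theorem TwoPrimeExp.symm {p q : ℕ} (h : TwoPrimeExp G p q) : TwoPrimeExp G q p :=
  ⟨h.hq, h.hp, h.ne.symm, fun t => (h.exp t).symm⟩

omit [Finite G] in
theorem TwoPrimeExp.no_commute {p q : ℕ} (h : TwoPrimeExp G p q) {x y : G} (hx : orderOf x = p)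
    (hy : orderOf y = q) : ¬ Commute x y := fun hc => by
  have ho := hc.orderOf_mul_eq_mul_orderOf_of_coprime
    (by rw [hx, hy]; exact (Nat.coprime_primes h.hp.prime h.hq.prime).2 h.ne)
  rw [hx, hy] at ho
  rcases h.exp (x * y) with e | e
  · have := ho ▸ orderOf_dvd_of_pow_eq_one e
    exact h.ne ((Nat.prime_dvd_prime_iff_eq h.hq.prime h.hp.prime).1 ((dvd_mul_left q p).trans this)).symm
  · have := ho ▸ orderOf_dvd_of_pow_eq_one e
    exact h.ne ((Nat.prime_dvd_prime_iff_eq h.hp.prime h.hq.prime).1 ((dvd_mul_right p q).trans this))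

theorem twoPrimeExp_of_vals {a b : ℕ} (h : Vals G a b) (hodd : ¬ 2 ∣ Nat.card G) {p q : ℕ}
    (hp : OddPrime G p) (hq : OddPrime G q) (hpq : p ≠ q)
    (hall : ∀ s, OddPrime G s → s = p ∨ s = q) (hpa : cnt G p = a) (hqb : cnt G q = b) :
    TwoPrimeExp G p q := by
  have key : ∀ (a b p q : ℕ), Vals G a b → OddPrime G p → OddPrime G q → p ≠ q →
      (∀ s, OddPrime G s → s = p ∨ s = q) → cnt G p = a → cnt G q = b →
      ∀ t : G, p ∣ orderOf t → orderOf t = p := by
    intro a b p q h hp hq hpq hall hpa hqb t hpt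
    have hno : ∀ m, m ∣ orderOf t → cnt G m ≠ 0 := fun m hm =>
      (cnt_pos (G := G) (g := t ^ (orderOf t / m)) (orderOf_pow_orderOf_div (orderOf_pos t).ne' hm)).ne'
    obtain ⟨k, hk⟩ := hpt
    rcases eq_or_ne k 1 with rfl | hk1
    · rw [hk, mul_one]
    obtain ⟨s, hs, hsk⟩ := Nat.exists_prime_and_dvd hk1
    have hst : p * s ∣ orderOf t := hk ▸ mul_dvd_mul_left p hsk
    have hsG : s ∣ Nat.card G := ((dvd_mul_left s p).trans hst).trans (orderOf_dvd_natCard t)
    rcases hall s ⟨hs, fun e => hodd (e ▸ hsG), hsG⟩ with rfl | rfl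
    · exact absurd (eq_zero_at_sq h hp hq hpq hpa hqb) (sq s ▸ hno _ hst)
    · exact absurd (eq_zero_at_pq h hp hq hpq hpa hqb) (hno _ hst)
  refine ⟨hp, hq, hpq, fun t => ?_⟩
  by_cases h1 : orderOf t = 1
  · exact Or.inl (by rw [orderOf_eq_one_iff.1 h1, one_pow])
  obtain ⟨s, hs, hst⟩ := Nat.exists_prime_and_dvd h1
  have hsG := hst.trans (orderOf_dvd_natCard t)
  rcases hall s ⟨hs, fun e => hodd (e ▸ hsG), hsG⟩ with rfl | rfl
  · exact Or.inl (by rw [← key a b s q h hp hq hpq hall hpa hqb t hst, pow_orderOf_eq_one])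
  · exact Or.inr (by
      rw [← key b a s p h.symm hq hp hpq.symm (fun r hr => (hall r hr).symm) hqb hpa t hst, pow_orderOf_eq_one])

/-- The Sylow subgroup for the other prime has prime order and is self-normalizing. -/
theorem TwoPrimeExp.exists_complement {p q : ℕ} (h : TwoPrimeExp G p q) (A : Subgroup G) [A.Normal]
    (hA : IsMulCommutative A) (hA1 : A ≠ ⊥) (hAp : ∀ a ∈ A, a ^ p = 1) :
    ∃ C : Subgroup G, Cfsg.IsFrobeniusComplement C ∧ (Nat.card C).Prime := by
  classical
  have := Fact.mk h.hp.prime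
  have := Fact.mk h.hq.prime
  open scoped IsMulCommutative in
  letI : CommGroup A := inferInstance
  have hAnt : Nontrivial A := (nontrivial_iff_ne_bot A).2 hA1
  have hAq : IsPGroup p A := fun a => ⟨1, Subtype.ext (by simpa using hAp a a.2)⟩
  have hfix : ∀ k : G, orderOf k = q → ∀ v : A, Commute k (v : G) → v = 1 := by
    intro k hk v hc
    by_contra hv
    exact h.no_commute (orderOf_eq_prime (hAp v v.2) fun e => hv (Subtype.ext e)) hk hc.symm
  have hU : S3992.UniqueOrd G q := S3992.uniqueOrd_of_fpf (V := A) h.hp.prime h.hq.prime h.ne.symm hAq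
    MulAut.conjNormal fun k hk v hv => hfix k hk v (mul_inv_eq_iff_eq_mul.1
      ((MulAut.conjNormal_apply k v).symm.trans (congrArg Subtype.val hv)))
  let P : Sylow q G := default
  set Q : Subgroup G := (P : Subgroup G) with hQ
  have hexpQ : ∀ t ∈ Q, t ^ q = 1 := by
    intro t ht
    rcases h.exp t with e | e
    · obtain ⟨k, hk⟩ := IsPGroup.iff_orderOf.1 P.isPGroup' ⟨t, ht⟩
      rw [Subgroup.orderOf_mk] at hk
      have : orderOf t = 1 := Nat.eq_one_of_dvd_coprimes
        (((Nat.coprime_primes h.hp.prime h.hq.prime).2 h.ne).pow_right k) (orderOf_dvd_of_pow_eq_one e)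
        (dvd_of_eq hk)
      rw [orderOf_eq_one_iff.1 this, one_pow]
    · exact e
  have hQnt : Nontrivial Q := Finite.one_lt_card_iff_nontrivial.1
    (lt_of_lt_of_le h.hq.prime.one_lt (Nat.le_of_dvd Nat.card_pos (P.dvd_card_of_dvd_card h.hq.dvd)))
  have := P.isPGroup'.center_nontrivial
  obtain ⟨c, hc⟩ := exists_ne (1 : center (P : Subgroup G))
  have hcG : ((c : Q) : G) ≠ 1 := fun e => hc (Subtype.ext (Subtype.ext e))
  have hoc : orderOf ((c : Q) : G) = q := orderOf_eq_prime (hexpQ _ (c : Q).2) hcG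
  have hQeq : Q = zpowers ((c : Q) : G) := by
    refine le_antisymm (fun t ht => ?_) (zpowers_le.2 (c : Q).2)
    rcases eq_or_ne t 1 with rfl | ht1
    · exact one_mem _
    exact hU _ t hoc (orderOf_eq_prime (hexpQ t ht) ht1)
      (congrArg Subtype.val (mem_center_iff.1 c.2 (⟨t, ht⟩ : Q))).symm
  have hQc : Nat.card Q = q := by rw [hQeq, Nat.card_zpowers, hoc]
  have hordQ : ∀ t ∈ Q, t ≠ 1 → orderOf t = q := fun t ht ht1 => orderOf_eq_prime (hexpQ t ht) ht1
  have hAQ : ∀ t, t ∈ A → t ∈ Q → t = 1 := fun t hta htq => by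
    by_contra h1
    exact h.ne ((orderOf_eq_prime (hAp t hta) h1).symm.trans (hordQ t htq h1))
  -- only the identity of `A` normalizes `Q`
  have hAN : ∀ t, t ∈ A → t ∈ normalizer (Q : Set G) → t = 1 := by
    intro t hta htn
    by_contra h1
    refine h.no_commute (orderOf_eq_prime (hAp t hta) h1) hoc ?_
    have e1 : t * (c : Q) * t⁻¹ * ((c : Q) : G)⁻¹ = 1 := by
      refine hAQ _ ?_ (mul_mem ((mem_normalizer_iff.1 htn _).1 (c : Q).2) (inv_mem (c : Q).2))
      rw [show t * (c : Q) * t⁻¹ * ((c : Q) : G)⁻¹ = t * (((c : Q) : G) * t⁻¹ * ((c : Q) : G)⁻¹) by group]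
      exact mul_mem hta (Normal.conj_mem inferInstance _ (inv_mem hta) _)
    exact mul_inv_eq_iff_eq_mul.1 (mul_inv_eq_one.1 e1)
  have hnorm : ∀ x ∈ normalizer (Q : Set G), x ∈ Q := by
    intro x hx
    by_contra hxQ
    have hx1 : x ≠ 1 := fun e => hxQ (e ▸ one_mem Q)
    have hxp : orderOf x = p := by
      refine orderOf_eq_prime ((h.exp x).resolve_right fun e => hxQ ?_) hx1
      have hZ : IsPGroup q (zpowers x) :=
        IsPGroup.of_card (n := 1) (by rw [Nat.card_zpowers, orderOf_eq_prime e hx1, pow_one])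
      have h2 := hZ.inf_normalizer_sylow P
      have : x ∈ zpowers x ⊓ (P : Subgroup G) := h2 ▸ ⟨mem_zpowers x, hx⟩
      exact this.2
    have hout : ∀ y : Q, ∀ i : ℕ, ¬ p ∣ i → ((y : G) * x) ^ i ∉ Q := by
      intro y i hi hmem
      have hn : ∀ j : ℕ, ((y : G) * x) ^ j * (x ^ j)⁻¹ ∈ Q := by
        intro j
        induction j with
        | zero => simp
        | succ j ih =>
          rw [show ((y : G) * x) ^ (j + 1) * (x ^ (j + 1))⁻¹ = (y : G) *
            (x * (((y : G) * x) ^ j * (x ^ j)⁻¹) * x⁻¹) by rw [pow_succ', pow_succ']; group]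
          exact mul_mem y.2 ((mem_normalizer_iff.1 hx _).1 ih)
      have hxi : x ^ i ∈ Q := by
        have := mul_mem (inv_mem (hn i)) hmem
        rwa [mul_inv_rev, inv_inv, inv_mul_cancel_right] at this
      have hne : x ^ i ≠ 1 := fun e => hi (hxp ▸ orderOf_dvd_of_pow_eq_one e)
      have : q ∣ orderOf x := (hordQ _ hxi hne) ▸ (orderOf_pow_dvd i)
      rw [hxp] at this
      exact h.ne ((Nat.prime_dvd_prime_iff_eq h.hq.prime h.hp.prime).1 this).symm
    have hu : ∀ y : Q, (y : G) * x ∈ normalizer (Q : Set G) := fun y => mul_mem (le_normalizer y.2) hx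
    have hvu : ∀ (v : A) (y : Q), ((v : G) * ((y : G) * x)) ^ p = 1 := by
      intro v y
      refine (h.exp _).resolve_right fun e => ?_
      have hm : ((y : G) * x) ^ q ∈ A := by
        rw [← QuotientGroup.eq_one_iff, QuotientGroup.mk_pow]
        have := congrArg (QuotientGroup.mk' A) e
        rwa [map_one, map_pow, map_mul, QuotientGroup.mk'_apply, QuotientGroup.mk'_apply,
          (QuotientGroup.eq_one_iff (v : G)).2 v.2, one_mul] at this
      refine hout y q (fun hd => h.ne ((Nat.prime_dvd_prime_iff_eq h.hp.prime h.hq.prime).1 hd)) ?_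
      rw [hAN _ hm (pow_mem (hu y) q)]
      exact one_mem Q
    have hup : ∀ y : Q, ((y : G) * x) ^ p = 1 := fun y => by simpa using hvu 1 y
    let ψ : G →* MulAut A := MulAut.conjNormal
    have hpow : ∀ (v : A) (u : G) (n : ℕ),
        ((v : G) * u) ^ n = ((∏ i ∈ Finset.range n, ψ (u ^ i) v : A) : G) * u ^ n := by
      intro v u n
      induction n with
      | zero => simp
      | succ n ih =>
        rw [pow_succ, ih, Finset.prod_range_succ, Subgroup.coe_mul, MulAut.conjNormal_apply, pow_succ]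
        group
    have hnorm1 : ∀ (v : A) (y : Q), ∏ i ∈ Finset.range p, ψ (((y : G) * x) ^ i) v = 1 := by
      intro v y
      refine Subtype.ext ?_
      have := hpow v ((y : G) * x) p
      rw [hvu, hup, mul_one] at this
      exact this.symm
    have := Fintype.ofFinite Q
    have hsumQ : ∀ w : A, ∏ k : Q, ψ (k : G) w = 1 := by
      intro w
      refine hfix _ hoc _ (mul_inv_eq_iff_eq_mul.1 ((MulAut.conjNormal_apply _ _).symm.trans
        (congrArg Subtype.val (show ψ ((c : Q) : G) (∏ k : Q, ψ (k : G) w) = ∏ k : Q, ψ (k : G) w from ?_))))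
      rw [map_prod]
      refine Fintype.prod_equiv (Equiv.mulLeft (c : Q)) _ _ fun k => ?_
      rw [Equiv.coe_mulLeft, Subgroup.coe_mul, map_mul, MulAut.mul_apply]
    obtain ⟨v, hv⟩ := exists_ne (1 : A)
    have h1 : ∏ i ∈ Finset.range p, ∏ y : Q, ψ (((y : G) * x) ^ i) v = 1 := by
      rw [Finset.prod_comm]
      exact Finset.prod_eq_one fun y _ => hnorm1 v y
    obtain ⟨k, hk⟩ := Nat.exists_eq_succ_of_ne_zero h.hp.prime.ne_zero
    rw [hk, Finset.prod_range_succ', Finset.prod_eq_one (s := Finset.range k), one_mul] at h1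
    · simp only [pow_zero, map_one, MulAut.one_apply, Finset.prod_const, Finset.card_univ,
        Fintype.card_eq_nat_card] at h1
      rw [hQc] at h1
      refine hv (orderOf_eq_one_iff.1 (Nat.eq_one_of_dvd_coprimes
        ((Nat.coprime_primes h.hp.prime h.hq.prime).2 h.ne)
        (orderOf_dvd_of_pow_eq_one (Subtype.ext (by simpa using hAp v v.2)))
        (orderOf_dvd_of_pow_eq_one h1)))
    intro i hi
    rw [Finset.mem_range] at hi
    have hnd : ¬ p ∣ i + 1 := fun hd => by have := Nat.le_of_dvd (Nat.succ_pos i) hd; omega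
    have hmem : ∀ y : Q, ((y : G) * x) ^ (i + 1) * (x ^ (i + 1))⁻¹ ∈ Q := by
      intro y
      generalize i + 1 = j
      induction j with
      | zero => simp
      | succ j ih =>
        rw [show ((y : G) * x) ^ (j + 1) * (x ^ (j + 1))⁻¹ = (y : G) *
          (x * (((y : G) * x) ^ j * (x ^ j)⁻¹) * x⁻¹) by rw [pow_succ', pow_succ']; group]
        exact mul_mem y.2 ((mem_normalizer_iff.1 hx _).1 ih)
    obtain ⟨j, -, hj⟩ := Nat.exists_mul_mod_eq_one_of_coprime (h.hp.prime.coprime_iff_not_dvd.2 hnd).symm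
      h.hp.prime.one_lt
    have hf : Function.Bijective (fun y : Q => (⟨_, hmem y⟩ : Q)) := by
      refine Finite.injective_iff_bijective.1 fun y z e => ?_
      have e' : ((y : G) * x) ^ (i + 1) = ((z : G) * x) ^ (i + 1) := mul_right_cancel (congrArg Subtype.val e)
      have e2 := congrArg (fun t => t ^ j) e'
      simp only [← pow_mul] at e2
      rw [pow_eq_pow_mod _ (hup y), pow_eq_pow_mod _ (hup z), hj, pow_one, pow_one] at e2
      exact Subtype.ext (mul_right_cancel e2)
    rw [← hsumQ (ψ (x ^ (i + 1)) v)]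
    refine Fintype.prod_equiv (Equiv.ofBijective _ hf) _ _ fun y => ?_
    rw [← MulAut.mul_apply, ← map_mul]
    show _ = ψ ((((y : G) * x) ^ (i + 1) * (x ^ (i + 1))⁻¹) * x ^ (i + 1)) v
    rw [inv_mul_cancel_right]
  refine ⟨Q, Core.isFrobeniusComplement_of_malnormal (fun e => ?_) (fun e => ?_) (fun g hg t ht hgt => ?_),
    hQc.symm ▸ h.hq.prime⟩
  · rw [e, card_bot] at hQc
    exact h.hq.prime.ne_one hQc.symm
  · rw [e, card_top] at hQc
    have := h.hp.dvd
    rw [hQc] at this
    exact h.ne ((Nat.prime_dvd_prime_iff_eq h.hp.prime h.hq.prime).1 this)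
  · by_contra ht1
    refine hg (hnorm g ?_)
    have hQt : Q = zpowers t := (eq_of_le_of_card_ge (zpowers_le.2 ht)
      (by rw [hQc, Nat.card_zpowers, hordQ t ht ht1])).symm
    refine mem_normalizer_fintype fun n hn => ?_
    obtain ⟨k, rfl⟩ := mem_zpowers_iff.1 (hQt ▸ hn : n ∈ zpowers t)
    rw [← conj_zpow]
    exact zpow_mem hgt k

theorem exponent_sylow {p q : ℕ} (h : TwoPrimeExp G p q) {r : ℕ} [hr : Fact r.Prime] (P : Sylow r G)
    (hd : r ∣ Nat.card G) : Monoid.exponent (P : Subgroup G) = r := by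
  refine Nat.dvd_antisymm (Monoid.exponent_dvd_of_forall_pow_eq_one fun t => ?_) ?_
  · obtain ⟨k, hk⟩ := IsPGroup.iff_orderOf.1 P.isPGroup' t
    rcases Nat.eq_zero_or_pos k with rfl | hk0
    · rw [pow_zero, orderOf_eq_one_iff] at hk
      rw [hk, one_pow]
    · have : ∀ s, s.Prime → (t : G) ^ s = 1 → t ^ r = 1 := fun s hs e => by
        have h1 : orderOf t ∣ s := orderOf_dvd_of_pow_eq_one (Subtype.ext (by simpa using e))
        rw [hk] at h1
        obtain rfl := (Nat.prime_dvd_prime_iff_eq hr.out hs).1 ((dvd_pow_self r hk0.ne').trans h1)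
        exact Subtype.ext (by simpa using e)
      rcases h.exp t with e | e
      · exact this p h.hp.prime e
      · exact this q h.hq.prime e
  · obtain ⟨t, ht⟩ := exists_prime_orderOf_dvd_card' (G := (P : Subgroup G)) r (P.dvd_card_of_dvd_card hd)
    exact (dvd_of_eq ht.symm).trans (Monoid.order_dvd_exponent t)

/-- The structure for odd order. -/
theorem odd_structure (hodd : Odd (Nat.card G))
    (h : (((fun m : ℕ => Nat.card {g : G // orderOf g = m}) '' Set.range (orderOf : G → ℕ))).ncard = 3) :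
    (Nat.card G).primeFactors.card ≤ 2 ∧
      ((Nat.card G).primeFactors.card = 2 →
        (∀ (p : ℕ) [Fact p.Prime] (P : Sylow p G), p ∣ Nat.card G → Monoid.exponent (P : Subgroup G) = p) ∧
        ∃ C : Subgroup G, Cfsg.IsFrobeniusComplement C ∧ (Nat.card C).Prime) := by
  have hsol := solvable_of_three h
  have h2 : ¬ 2 ∣ Nat.card G := fun hd => by
    rw [Nat.odd_iff] at hodd
    omega
  obtain ⟨a, b, hV, -⟩ := exists_vals h
  rcases prime_cases hV (fun hd => absurd hd h2) with ⟨p, -, hsub⟩ | ⟨p, q, hp, hq, hpq, hall, ea, eb⟩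
  · have hle : (Nat.card G).primeFactors.card ≤ 1 := by
      refine (Finset.card_le_card (t := {p}) fun s hs => ?_).trans (Finset.card_singleton p).le
      have hs' := hsub hs
      rw [Finset.mem_insert, Finset.mem_singleton] at hs'
      rw [Finset.mem_singleton]
      exact hs'.resolve_left fun e => h2 (e ▸ (Nat.mem_primeFactors.1 hs).2.1)
    exact ⟨by omega, fun hc => by omega⟩
  · have hT := twoPrimeExp_of_vals hV h2 hp hq hpq hall ea eb
    refine ⟨?_, fun _ => ⟨fun r _ P hd => exponent_sylow hT P hd, ?_⟩⟩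
    · refine (Finset.card_le_card (t := {p, q}) fun s hs => ?_).trans Finset.card_le_two
      rw [Nat.mem_primeFactors] at hs
      rw [Finset.mem_insert, Finset.mem_singleton]
      exact hall s ⟨hs.1, fun e => h2 (e ▸ hs.2.1), hs.2.1⟩
    · have hne : (⊤ : Subgroup G) ≠ ⊥ := fun e => hp.prime.not_dvd_one (by
        have h1 := hp.dvd
        rwa [← Subgroup.card_top, e, card_bot] at h1)
      obtain ⟨s, A, hs, hAn, hAc, -, hA1, hAs⟩ :=
        S3992.exists_normal_abelian_pGroup (⊤ : Subgroup G) hne inferInstance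
      obtain ⟨t, ht, ht1⟩ := (bot_or_exists_ne_one A).resolve_left hA1
      have := Fact.mk hs
      have hot : orderOf t = s := orderOf_eq_prime (hAs t ht) ht1
      rcases hT.exp t with e | e
      · obtain rfl := (Nat.prime_dvd_prime_iff_eq hs hp.prime).1 (hot ▸ orderOf_dvd_of_pow_eq_one e)
        exact hT.exists_complement A hAc hA1 hAs
      · obtain rfl := (Nat.prime_dvd_prime_iff_eq hs hq.prime).1 (hot ▸ orderOf_dvd_of_pow_eq_one e)
        exact hT.symm.exists_complement A hAc hA1 hAs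

end Cfsg.Agent.NSEThree
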